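import Groth.Prelude.Def_Red
import Groth.Prelude.Def_NonAbH2
import Groth.Agent.S0981
import Groth.Agent.Lib.Rigidity.Relative.AbScheme
import Mathlib

/-!
# Trivial extensions of abelian schemes by the multiplicative group
-/

universe u

open CategoryTheory CategoryTheory.Limits MonoidalCategory CartesianMonoidalCategory MonObj GrpObj AlgebraicGeometry

namespace GrothLib.GmExt15

theorem bijective_app_of_proper_flat {X S : Scheme.{u}} (f : X ⟶ S) [IsProper f] [Flat f]
    [LocallyOfFinitePresentation f] [GeometricallyReduced f] [GeometricallyConnected f] (V : S.Opens) :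
    Function.Bijective (f.app V) :=
  (ConcreteCategory.isIso_iff_bijective _).1 (Groth.Agent.S0981.result f (fun _ _ _ g => by
    haveI : IsReduced (pullback f g) :=
      GeometricallyReduced.geometrically_isReduced g _ _ (IsPullback.of_hasPullback f g)
    exact ⟨inferInstance,
      GeometricallyConnected.geometrically_connectedSpace g _ _ (IsPullback.of_hasPullback f g)⟩) V)

theorem bijective_appTop_prod {S : Scheme.{u}} (X : Over S) [IsProper X.hom] [Smooth X.hom]
    [GeometricallyConnected X.hom] : Function.Bijective (X ⊗ X).hom.appTop := by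
  haveI : GeometricallyReduced X.hom := GrothLib.Rigidity.geometricallyReduced_of_smooth' X.hom
  have h : (X ⊗ X).hom = pullback.fst X.hom X.hom ≫ X.hom := rfl
  rw [h, Scheme.Hom.comp_appTop]
  haveI : IsIso (X.hom.appTop) := (ConcreteCategory.isIso_iff_bijective _).2 (bijective_app_of_proper_flat X.hom ⊤)
  haveI : IsIso ((pullback.fst X.hom X.hom).appTop) :=
    (ConcreteCategory.isIso_iff_bijective _).2 (bijective_app_of_proper_flat (pullback.fst X.hom X.hom) ⊤)
  exact (ConcreteCategory.isIso_iff_bijective _).1 inferInstance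

theorem eq_toUnit_comp_Gm {S : Scheme.{u}} {W : Over S} (hW : Function.Bijective W.hom.appTop)
    (g : W ⟶ Red.Gm S) : ∃ c : 𝟙_ (Over S) ⟶ Red.Gm S, g = toUnit W ≫ c := by
  let D := Red.diag (ULift.{u} ℤ) ℤ
  let q : (Red.Gm S).left ⟶ D.left := pullback.fst _ _
  haveI : IsAffine D.left := inferInstanceAs (IsAffine (Spec _))
  haveI : IsIso W.hom.appTop := (ConcreteCategory.isIso_iff_bijective _).2 hW
  let z : S ⟶ D.left := S.toSpecΓ ≫ Spec.map ((g.left ≫ q).appTop ≫ inv W.hom.appTop) ≫ D.left.isoSpec.inv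
  have hz : g.left ≫ q = W.hom ≫ z := by
    rw [← cancel_mono D.left.isoSpec.hom]
    simp only [z, Category.assoc, Iso.inv_hom_id, Category.comp_id]
    rw [← Category.assoc W.hom, Scheme.toSpecΓ_naturality, Category.assoc, ← Spec.map_comp,
      Category.assoc, IsIso.inv_hom_id, Category.comp_id, ← Category.assoc]
    exact Scheme.toSpecΓ_naturality _
  let c : 𝟙_ (Over S) ⟶ Red.Gm S := Over.homMk (pullback.lift z (𝟙 S) (specULiftZIsTerminal.hom_ext _ _))
    (pullback.lift_snd _ _ _)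
  refine ⟨c, Over.OverMorphism.ext (pullback.hom_ext ?_ ?_)⟩
  · rw [Over.comp_left, Category.assoc]
    exact hz.trans ((congrArg (W.hom ≫ ·) (pullback.lift_fst _ _ _)).symm)
  · rw [Over.comp_left, Category.assoc]
    exact (Over.w g).trans (((congrArg (W.hom ≫ ·) (pullback.lift_snd _ _ _)).trans (Category.comp_id _)).symm)

theorem exists_hom_section {S : Scheme.{u}} (X Y : Over S) [GrpObj X] [IsCommMonObj X] [GrpObj Y]
    [IsCommMonObj Y] {G' : Over S} [GrpObj G'] (hc : ∀ g : X ⊗ X ⟶ G', ∃ c, g = toUnit (X ⊗ X) ≫ c)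
    {K : Precoverage Scheme.{u}} (u : G' ⟶ Y) (v : Y ⟶ X) (hex : NonAbH1.IsExactSeq K u v)
    (q : X ⟶ Y) (hq : q ≫ v = 𝟙 X) : ∃ s : X ⟶ Y, IsMonHom s ∧ s ≫ v = 𝟙 X := by
  obtain ⟨hu, hv, huv, hsq, -⟩ := hex
  set q' : X ⟶ Y := q * ((toUnit X ≫ η[X]) ≫ q)⁻¹ with hq'
  have h0 : η[X] ≫ q' = η[Y] := by
    have he : η[X] ≫ toUnit X ≫ η[X] = η[X] := by rw [← Category.assoc]; simp
    rw [hq', MonObj.comp_mul, GrpObj.comp_inv, ← Category.assoc, ← Category.assoc, Category.assoc η[X], he,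
      mul_inv_cancel, Hom.one_def]
    simp
  have hv' : q' ≫ v = 𝟙 X := by
    rw [hq', MonObj.mul_comp, GrpObj.inv_comp, Category.assoc, hq, Category.comp_id]
    rw [show toUnit X ≫ η[X] = (1 : X ⟶ X) from rfl, inv_one, _root_.mul_one]
  clear_value q'
  set D : X ⊗ X ⟶ Y := ((fst X X * snd X X) ≫ q') * ((fst X X ≫ q') * (snd X X ≫ q'))⁻¹ with hD
  have hDv : D ≫ v = 1 := by
    rw [hD, MonObj.mul_comp _ _ v, GrpObj.inv_comp, MonObj.mul_comp _ _ v]
    simp only [Category.assoc, hv', Category.comp_id]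
    exact mul_inv_cancel _
  let w := hsq.lift (1 : X ⊗ X ⟶ Y) D (by rw [hDv, MonObj.one_comp])
  have hw : D = (w ≫ snd Y G') ≫ u := by
    have h1 : w ≫ fst Y G' = 1 := hsq.lift_fst _ _ _
    have h2 : w ≫ (Y ◁ u) ≫ μ[Y] = D := hsq.lift_snd _ _ _
    rw [← h2, ← Category.assoc]
    have h3 : w ≫ (Y ◁ u) = lift 1 ((w ≫ snd Y G') ≫ u) := by
      apply hom_ext <;> simp [h1]
    rw [h3, ← Hom.mul_def, _root_.one_mul]
  obtain ⟨c, hc'⟩ := hc (w ≫ snd Y G')
  have hone : (η[X] : 𝟙_ (Over S) ⟶ X) = 1 := by simp [Hom.one_def]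
  have honeY : (η[Y] : 𝟙_ (Over S) ⟶ Y) = 1 := by simp [Hom.one_def]
  have hp : lift η[X] η[X] ≫ D = 1 := by
    have ha : lift η[X] η[X] ≫ (fst X X * snd X X) = η[X] := by
      rw [MonObj.comp_mul, lift_fst, lift_snd, hone, _root_.one_mul]
    rw [hD, MonObj.comp_mul, GrpObj.comp_inv, MonObj.comp_mul, reassoc_of% ha, lift_fst_assoc,
      lift_snd_assoc, h0, honeY]
    simp
  have hcu : c ≫ u = 1 := by
    rw [hw, hc', Category.assoc, ← Category.assoc (lift η[X] η[X]),
      show lift η[X] η[X] ≫ toUnit (X ⊗ X) = 𝟙 _ from toUnit_unique _ _, Category.id_comp] at hp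
    exact hp
  have hadd : (fst X X * snd X X) ≫ q' = (fst X X ≫ q') * (snd X X ≫ q') := by
    rw [← mul_inv_eq_one]
    exact hw.trans (by rw [hc', Category.assoc, hcu, MonObj.comp_one])
  refine ⟨q', ⟨h0, ?_⟩, hv'⟩
  rw [show μ[X] = fst X X * snd X X by rw [Hom.mul_def]; simp, hadd, Hom.mul_def]
  congr 1

end GrothLib.GmExt15
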